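import Cfsg.Agent.LG4.Lin

/-!
# Doubly transitive groups of degree `p ^ 2 + 1` with an imprimitive point stabiliser, I
-/

namespace Cfsg.Lib.LG4

open MulAction Cfsg.Lib.Perm
open scoped Pointwise

variable {G Ω : Type*} [Group G] [MulAction G Ω]

/-- `B x y` is the block through `y` of a block system of the stabiliser of `x`. -/
structure Sys (G : Type*) {Ω : Type*} [Group G] [MulAction G Ω] (p : ℕ) (B : Ω → Ω → Set Ω) :
    Prop where
  fin : Finite G
  finΩ : Finite Ω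
  faith : FaithfulSMul G Ω
  prime : p.Prime
  deg : Nat.card Ω = p ^ 2 + 1
  two : Two G Ω
  eqv : Eqv G B
  self : ∀ {x y}, x ≠ y → y ∈ B x y
  not_mem : ∀ {x y}, x ≠ y → x ∉ B x y
  eq_of_mem : ∀ {x y z}, x ≠ y → z ∈ B x y → B x z = B x y
  card : ∀ {x y}, x ≠ y → (B x y).ncard = p

theorem exists_sys [Finite G] [Finite Ω] [FaithfulSMul G Ω] {p : ℕ} (hp : p.Prime)
    (hΩ : Nat.card Ω = p ^ 2 + 1) (h2 : Two G Ω) {a b : Ω} {B0 : Set Ω} (ha : a ∉ B0) (hb : b ∈ B0)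
    (hc : B0.ncard = p) (hB : ∀ g : G, g • a = a → ∀ z ∈ B0, g • z ∈ B0 → ∀ u ∈ B0, g • u ∈ B0) :
    ∃ B : Ω → Ω → Set Ω, Sys G p B ∧ B a b = B0 := by
  have hab : a ≠ b := fun e => ha (e ▸ hb)
  let B : Ω → Ω → Set Ω := fun x y => {z | ∃ g : G, g • a = x ∧ g • b = y ∧ g⁻¹ • z ∈ B0}
  have he : Eqv G B := by
    rintro h x y z ⟨g, h1, h3, h4⟩
    exact ⟨h * g, by rw [mul_smul, h1], by rw [mul_smul, h3], by simpa [mul_smul] using h4⟩
  have h0 : B a b = B0 := by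
    ext z
    constructor
    · rintro ⟨g, h1, h3, h4⟩
      simpa using hB g h1 b hb (h3.symm ▸ hb) _ h4
    · intro hz
      exact ⟨1, one_smul _ _, one_smul _ _, by simpa using hz⟩
  refine ⟨B, ⟨‹_›, ‹_›, ‹_›, hp, hΩ, h2, he, ?_, ?_, ?_, ?_⟩, h0⟩
  · intro x y hxy
    obtain ⟨g, rfl, rfl⟩ := h2 hab hxy
    exact he g a b b (h0 ▸ hb)
  · intro x y hxy
    obtain ⟨g, rfl, rfl⟩ := h2 hab hxy
    rw [he.iff, h0]
    exact ha
  · intro x y z hxy hz
    obtain ⟨g, rfl, rfl⟩ := h2 hab hxy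
    obtain ⟨z, rfl⟩ := MulAction.surjective g z
    rw [he.iff, h0] at hz
    rw [← he.smul, ← he.smul, h0]
    congr 1
    obtain ⟨k, hk1, hk2⟩ := h2 hab (fun e => ha (e ▸ hz) : a ≠ z)
    have h3 : B a z = k • B0 := by rw [← h0, he.smul, hk1, hk2]
    rw [h3]
    refine Set.eq_of_subset_of_ncard_le ?_ (by rw [Set.ncard_smul_set]) (Set.toFinite _)
    rintro _ ⟨u, hu, rfl⟩
    exact hB k hk1 b hb (hk2.symm ▸ hz) u hu
  · intro x y hxy
    rw [he.ncard_eq h2 hab hxy, h0, hc]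

namespace Sys

variable {p : ℕ} {B : Ω → Ω → Set Ω}

theorem ne (S : Sys G p B) {x y z : Ω} (hxy : x ≠ y) (hz : z ∈ B x y) : x ≠ z :=
  fun e => S.not_mem hxy (e ▸ hz)

theorem smul_mem (S : Sys G p B) {g : G} {x y z : Ω} (hxy : x ≠ y) (hx : g • x = x)
    (hy : g • y ∈ B x y) (hz : z ∈ B x y) : g • z ∈ B x y := by
  have := S.eqv g x y z hz
  rwa [hx, S.eq_of_mem hxy hy] at this

theorem smul_mem' (S : Sys G p B) {g : G} {x y z : Ω} (hx : g • x = x)
    (hy : g • y = y) (hz : z ∈ B x y) : g • z ∈ B x y := by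
  have := S.eqv g x y z hz
  rwa [hx, hy] at this

theorem symm (S : Sys G p B) {x y z : Ω} (hxy : x ≠ y) (hz : z ∈ B x y) : y ∈ B x z := by
  rw [S.eq_of_mem hxy hz]; exact S.self hxy

theorem ncard_diff (S : Sys G p B) {x y : Ω} (hxy : x ≠ y) : (B x y \ {y}).ncard = p - 1 := by
  rw [Set.ncard_sdiff_singleton_of_mem (S.self hxy), S.card hxy]

theorem exists_mem (S : Sys G p B) {x y : Ω} (hxy : x ≠ y) : ∃ c ∈ B x y, c ≠ y := by
  have h := S.ncard_diff hxy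
  have := S.prime.two_le
  obtain ⟨c, hc⟩ := Set.nonempty_of_ncard_ne_zero (s := B x y \ {y}) (by omega)
  exact ⟨c, hc.1, hc.2⟩

theorem exists_mem₂ (S : Sys G p B) (hp : p ≠ 2) {x y : Ω} (hxy : x ≠ y) (u : Ω) :
    ∃ c ∈ B x y, c ≠ y ∧ c ≠ u := by
  have := S.finΩ
  have h := S.ncard_diff hxy
  have := S.prime.two_le
  obtain ⟨c, hc, hcu⟩ := Set.exists_ne_of_one_lt_ncard (s := B x y \ {y}) (by omega) u
  exact ⟨c, hc.1, hc.2, hcu⟩

theorem eq_one (S : Sys G p B) {g : G} (h : ∀ z : Ω, g • z = z) : g = 1 :=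
  have := S.faith
  eq_of_smul_eq_smul (α := Ω) fun z => by rw [h z, one_smul]

/-- Step 1: the two-point stabilisers have order prime to `p`. -/
theorem eq_one_of_pow (S : Sys G p B) {x y : Ω} (hxy : x ≠ y) {g : G} {k : ℕ} (hg : g ^ p ^ k = 1)
    (hx : g • x = x) (hy : g • y = y) : g = 1 := by
  have := S.fin; have := S.finΩ; have := S.faith
  obtain ⟨c, hc, hcy⟩ := S.exists_mem hxy
  refine eq_one_of_fixP S.prime S.deg S.two (φ := fun g => g ^ p ^ k = 1)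
    (fun g h hg => by rw [conj_pow, hg]; simp) hxy (S.ne hxy hc).symm hcy ?_ hg hx hy
  intro g hg hx hy
  refine smul_eq_of_ncard_lt S.prime hg (B x y \ {y}) (Set.toFinite _) ?_ ?_ ⟨hc, hcy⟩
  · rintro z ⟨h1, h3⟩
    exact ⟨S.smul_mem' hx hy h1, fun e => h3 (MulAction.injective g (e.trans hy.symm))⟩
  · rw [S.ncard_diff hxy]
    have := S.prime.pos
    omega

theorem not_dvd (S : Sys G p B) {x y : Ω} (hxy : x ≠ y) {T : Subgroup G}
    (hx : ∀ g ∈ T, g • x = x) (hy : ∀ g ∈ T, g • y = y) : ¬ p ∣ Nat.card T := by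
  have := S.fin
  have := Fact.mk S.prime
  intro h
  obtain ⟨g, hg⟩ := exists_prime_orderOf_dvd_card' p h
  have h1 : (g : G) ^ p ^ 1 = 1 := by
    rw [pow_one, ← hg, ← Subgroup.coe_pow, pow_orderOf_eq_one, Subgroup.coe_one]
  have h3 : g = 1 := Subtype.ext (S.eq_one_of_pow hxy h1 (hx g g.2) (hy g g.2))
  rw [h3, orderOf_one] at hg
  exact S.prime.one_lt.ne hg

end Sys

/-- An abelian subgroup of order `p ^ 2` of the stabiliser of `a`, regular on the other points. -/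
structure Reg (G : Type*) {Ω : Type*} [Group G] [MulAction G Ω] (p : ℕ) (a : Ω) (P : Subgroup G) :
    Prop where
  fix : ∀ u ∈ P, u • a = a
  card : Nat.card P = p ^ 2
  comm : ∀ u ∈ P, ∀ v ∈ P, u * v = v * u
  semi : ∀ u ∈ P, ∀ y, a ≠ y → u • y = y → u = 1
  trans : ∀ y z, a ≠ y → a ≠ z → ∃ u ∈ P, u • y = z

theorem Reg.eq_of_smul {p : ℕ} {a : Ω} {P : Subgroup G} (h : Reg G p a P) {u v : G} (hu : u ∈ P)
    (hv : v ∈ P) {y : Ω} (hy : a ≠ y) (e : u • y = v • y) : u = v := by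
  have := h.semi (v⁻¹ * u) (mul_mem (inv_mem hv) hu) y hy (by rw [mul_smul, e, inv_smul_smul])
  exact (inv_mul_eq_one.mp this).symm

theorem Reg.pow {p : ℕ} {a : Ω} {P : Subgroup G} (h : Reg G p a P) {u : G} (hu : u ∈ P) :
    u ^ p ^ 2 = 1 := by
  have := pow_card_eq_one' (x := (⟨u, hu⟩ : P))
  rw [h.card] at this
  exact congrArg Subtype.val this

theorem Reg.card_of_le {p : ℕ} {a : Ω} {P : Subgroup G} (h : Reg G p a P) {R : Subgroup G}
    (hR : R ≤ P) {y : Ω} (hy : a ≠ y) (T : Set Ω) (hT : ∀ x, x ∈ T ↔ ∃ g ∈ R, g • y = x) :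
    Nat.card R = T.ncard := by
  rw [card_eq_ncard_mul_card_inf_stabilizer R y T hT]
  have : R ⊓ stabilizer G y = ⊥ := by
    rw [eq_bot_iff]
    exact fun u hu => h.semi u (hR hu.1) y hy hu.2
  rw [this, Subgroup.card_bot, mul_one]

/-- The kernel of the action on the blocks at `x`. -/
def Sys.K {p : ℕ} {B : Ω → Ω → Set Ω} (S : Sys G p B) (x : Ω) : Subgroup G where
  carrier := {g | g • x = x ∧ ∀ y, x ≠ y → g • y ∈ B x y}
  one_mem' := ⟨one_smul _ _, fun y hy => by rw [one_smul]; exact S.self hy⟩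
  mul_mem' := by
    rintro g h ⟨g1, g2⟩ ⟨h1, h2⟩
    refine ⟨by rw [mul_smul, h1, g1], fun y hy => ?_⟩
    rw [mul_smul]
    exact S.smul_mem hy g1 (g2 y hy) (h2 y hy)
  inv_mem' := by
    rintro g ⟨g1, g2⟩
    refine ⟨by rw [inv_smul_eq_iff, g1], fun y hy => ?_⟩
    have h1 : x ≠ g⁻¹ • y := fun e => hy (by rw [← g1, e, smul_inv_smul])
    have := g2 _ h1
    rw [smul_inv_smul] at this
    exact S.symm h1 this

namespace Sys

variable {p : ℕ} {B : Ω → Ω → Set Ω}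

theorem exists_reg (S : Sys G p B) (a : Ω) : ∃ P : Subgroup G, Reg G p a P := by
  have := S.fin; have := S.finΩ
  have := Fact.mk S.prime
  have hp := S.prime.two_le
  obtain ⟨b, hb⟩ : ∃ b, b ≠ a := by
    have : Nontrivial Ω := Finite.one_lt_card_iff_nontrivial.mp (by rw [S.deg]; nlinarith)
    exact exists_ne a
  have h1 := Two.card_stabilizer S.two hb.symm
  rw [S.deg, Nat.add_sub_cancel] at h1
  obtain ⟨P0, hP0⟩ := Sylow.exists_subgroup_card_pow_prime (G := stabilizer G a) p (n := 2)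
    ⟨_, h1⟩
  let P := P0.map (stabilizer G a).subtype
  have hc : Nat.card P = p ^ 2 := by
    rw [← hP0]
    exact (Nat.card_congr (P0.equivMapOfInjective _ (stabilizer G a).subtype_injective).toEquiv).symm
  have hfix : ∀ u ∈ P, u • a = a := fun u hu => Subgroup.map_subtype_le _ hu
  have hsemi : ∀ u ∈ P, ∀ y, a ≠ y → u • y = y → u = 1 := by
    intro u hu y hy h
    have := pow_card_eq_one' (x := (⟨u, hu⟩ : P))
    rw [hc] at this
    exact S.eq_one_of_pow hy (k := 2) (congrArg Subtype.val this) (hfix u hu) h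
  refine ⟨P, hfix, hc, ?_, hsemi, ?_⟩
  · intro u hu v hv
    exact congrArg Subtype.val ((IsPGroup.isMulCommutative_of_card_eq_prime_sq hc).is_comm.comm ⟨u, hu⟩ ⟨v, hv⟩)
  · intro y z hy hz
    have h3 := card_eq_ncard_mul_card_inf_stabilizer P y {x | ∃ g ∈ P, g • y = x} fun _ => Iff.rfl
    have h4 : P ⊓ stabilizer G y = ⊥ := by
      rw [eq_bot_iff]
      exact fun u hu => hsemi u hu.1 y hy hu.2
    rw [h4, Subgroup.card_bot, mul_one, hc] at h3
    have h5 : {x | ∃ g ∈ P, g • y = x} = ({a}ᶜ : Set Ω) := by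
      refine Set.eq_of_subset_of_ncard_le ?_ ?_ (Set.toFinite _)
      · rintro _ ⟨g, hg, rfl⟩ e
        exact smul_ne (g := g) hy ((hfix g hg).trans e.symm)
      · rw [Set.ncard_compl, Set.ncard_singleton, S.deg, ← h3]
        omega
    exact h5.symm.subset (Ne.symm hz)

theorem conj_mem_K (S : Sys G p B) {x : Ω} {g : G} (hg : g ∈ S.K x) (h : G) :
    h * g * h⁻¹ ∈ S.K (h • x) := by
  refine ⟨by simp [mul_smul, hg.1], fun y hy => ?_⟩
  obtain ⟨y, rfl⟩ := MulAction.surjective h y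
  rw [mul_smul, inv_smul_smul, mul_smul]
  exact S.eqv h _ _ _ (hg.2 y fun e => hy (e ▸ rfl))

theorem conj_mem_K' (S : Sys G p B) {x : Ω} {g h : G} (hg : g ∈ S.K x) (hx : h • x = x) :
    h * g * h⁻¹ ∈ S.K x := by
  have := S.conj_mem_K hg h
  rwa [hx] at this

theorem K_smul_mem (S : Sys G p B) {x y z : Ω} (hxy : x ≠ y) {g : G} (hg : g ∈ S.K x)
    (hz : z ∈ B x y) : g • z ∈ B x y :=
  S.smul_mem hxy hg.1 (hg.2 y hxy) hz

/-- An element of `P` that preserves one block preserves all. -/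
theorem mem_K_of_reg (S : Sys G p B) {a y z : Ω} {P : Subgroup G} (hP : Reg G p a P) (hy : a ≠ y)
    {u : G} (hu : u ∈ P) (hz : z ∈ B a y) (h : u • z ∈ B a y) : u ∈ S.K a := by
  refine ⟨hP.fix u hu, fun w hw => ?_⟩
  have haz := S.ne hy hz
  obtain ⟨v, hv, rfl⟩ := hP.trans z w haz hw
  rw [← mul_smul, hP.comm u hu v hv, mul_smul]
  have := S.eqv v a z _ (S.eq_of_mem hy hz ▸ h)
  rwa [hP.fix v hv] at this

theorem reg_trans (S : Sys G p B) {a y : Ω} {P : Subgroup G} (hP : Reg G p a P) (hy : a ≠ y)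
    {u v : Ω} (hu : u ∈ B a y) (hv : v ∈ B a y) : ∃ g ∈ P ⊓ S.K a, g • u = v := by
  obtain ⟨g, hg, h⟩ := hP.trans u v (S.ne hy hu) (S.ne hy hv)
  exact ⟨g, ⟨hg, S.mem_K_of_reg hP hy hg hu (h ▸ hv)⟩, h⟩

theorem K_trans (S : Sys G p B) {a y : Ω} (hy : a ≠ y) {u v : Ω} (hu : u ∈ B a y) (hv : v ∈ B a y) :
    ∃ g ∈ S.K a, g • u = v := by
  obtain ⟨P, hP⟩ := S.exists_reg a
  obtain ⟨g, hg, h⟩ := S.reg_trans hP hy hu hv
  exact ⟨g, hg.2, h⟩

theorem card_Q (S : Sys G p B) {a y : Ω} {P : Subgroup G} (hP : Reg G p a P) (hy : a ≠ y) :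
    Nat.card ↥(P ⊓ S.K a) = p := by
  rw [hP.card_of_le inf_le_left hy (B a y), S.card hy]
  intro x
  exact ⟨fun hx => S.reg_trans hP hy (S.self hy) hx, fun ⟨g, hg, h⟩ => h ▸ hg.2.2 y hy⟩

/-- Step 4: the kernel on the blocks is faithful on each block. -/
theorem K_faithful (S : Sys G p B) {a b : Ω} (hab : a ≠ b) {g : G} (hg : g ∈ S.K a)
    (h : ∀ z ∈ B a b, g • z = z) : g = 1 := by
  have := S.fin
  let N : Subgroup G := S.K a ⊓ fixingSubgroup G (B a b)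
  have hN : ∀ n, n ∈ N ↔ n ∈ S.K a ∧ ∀ z ∈ B a b, n • z = z := fun n => by
    simp [N, mem_fixingSubgroup_iff]
  refine S.eq_one fun z => ?_
  by_cases hz : a = z
  · exact hz ▸ hg.1
  refine smul_eq_of_normal_prime S.prime (S.K a) N (B a z) (S.card hz)
    (fun k hk x hx => S.K_smul_mem hz hk hx) (fun x hx y hy => S.K_trans hz hx hy) inf_le_left ?_
    (S.not_dvd hab (fun n hn => ((hN n).mp hn).1.1) fun n hn => ((hN n).mp hn).2 b (S.self hab))
    ((hN g).mpr ⟨hg, h⟩) (S.self hz)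
  intro k hk n hn
  rw [hN] at hn ⊢
  refine ⟨S.conj_mem_K' hn.1 hk.1, fun w hw => ?_⟩
  rw [mul_smul, mul_smul, hn.2 _ (S.K_smul_mem hab (inv_mem hk) hw), smul_inv_smul]

/-- Step 5: the sets `{x} ∪ B x y` are not symmetric in `x, y`. -/
theorem not_symm (S : Sys G p B) {a b : Ω} (hab : a ≠ b) : insert a (B a b) ≠ insert b (B b a) := by
  have := S.finΩ
  intro h
  have he : Eqv G fun x y => insert x (B x y) := by
    rintro g x y z (rfl | hz)
    exacts [Or.inl rfl, Or.inr (S.eqv g x y z hz)]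
  have hall : ∀ {x y : Ω}, x ≠ y → insert x (B x y) = insert y (B y x) := fun hxy =>
    Two.transport S.two (Φ := fun x y => insert x (B x y) = insert y (B y x)) (fun g x y _ h => by
      have h1 := he.smul g x y
      have h3 := he.smul g y x
      rw [← h1, ← h3, h]) hab h hxy
  have hx : ∀ {x y v : Ω}, x ≠ y → v ∈ insert x (B x y) → x ≠ v →
      insert x (B x v) = insert x (B x y) := by
    rintro x y v hxy (rfl | hv) hxv
    · exact absurd rfl hxv
    · rw [S.eq_of_mem hxy hv]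
  obtain ⟨c, hc, hcb⟩ := S.exists_mem hab
  have := linear_space S.prime S.deg S.two he (fun x y _ => Or.inl rfl)
    (fun x y h => Or.inr (S.self h)) (by
      intro x y hxy u hu v hv huv
      by_cases hxu : x = u
      · subst hxu
        exact hx hxy hv huv
      · have h1 := hx hxy hu hxu
        have h3 := hall hxu
        rw [hx (Ne.symm hxu) (h3 ▸ h1 ▸ hv) huv, ← h3, h1]) hab (S.ne hab hc).symm hcb (Or.inr hc)
  have h1 := congrArg Set.ncard this
  rw [Set.ncard_insert_of_notMem (S.not_mem hab) (Set.toFinite _), S.card hab, Set.ncard_univ,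
    S.deg] at h1
  have := S.prime.two_le
  nlinarith

theorem exists_not_mem (S : Sys G p B) {a b : Ω} (hab : a ≠ b) :
    ∃ c ∈ B b a, c ≠ a ∧ c ∉ B a b := by
  have := S.finΩ
  by_contra h
  push Not at h
  refine S.not_symm hab (Set.eq_of_subset_of_ncard_le ?_ ?_ (Set.toFinite _)).symm
  · rintro z (rfl | hz)
    · exact Or.inr (S.self hab)
    · by_cases hza : z = a
      exacts [Or.inl hza, Or.inr (h z hz hza)]
  · rw [Set.ncard_insert_of_notMem (S.not_mem hab) (Set.toFinite _),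
      Set.ncard_insert_of_notMem (S.not_mem hab.symm) (Set.toFinite _), S.card hab, S.card hab.symm]

/-- The set of blocks at `a`. -/
def blocks (B : Ω → Ω → Set Ω) (a : Ω) : Set (Set Ω) := B a '' {a}ᶜ

theorem ncard_blocks (S : Sys G p B) (a : Ω) : (blocks B a).ncard = p := by
  have := S.finΩ
  have h := ncard_eq_mul_of_classes {a}ᶜ (Set.toFinite _) (B a) p (by
    intro x hx
    have hax : a ≠ x := Ne.symm hx
    rw [← S.card hax]
    congr 1
    ext y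
    constructor
    · rintro ⟨h1, h3⟩
      exact h3 ▸ S.self (Ne.symm h1)
    · intro hy
      exact ⟨(S.ne hax hy).symm, S.eq_of_mem hax hy⟩)
  rw [Set.ncard_compl, Set.ncard_singleton, S.deg, Nat.add_sub_cancel, pow_two] at h
  exact (Nat.eq_of_mul_eq_mul_right S.prime.pos h).symm

theorem smul_block (S : Sys G p B) {g : G} {a : Ω} (ha : g • a = a) (y : Ω) :
    g • B a y = B a (g • y) := by rw [S.eqv.smul, ha]

theorem eq_iff (S : Sys G p B) {a y z : Ω} (hy : a ≠ y) (hz : a ≠ z) :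
    B a z = B a y ↔ z ∈ B a y :=
  ⟨fun h => h ▸ S.self hz, S.eq_of_mem hy⟩

/-- Burnside's theorem for the action on the blocks. -/
theorem blocks_dichotomy (S : Sys G p B) {a : Ω} (H : Subgroup G) (hH : ∀ g ∈ H, g • a = a)
    (htr : ∀ y z, a ≠ y → a ≠ z → ∃ u ∈ H, u • y = z) :
    (∀ b c y, a ≠ b → a ≠ c → a ≠ y → c ∉ B a b → y ∉ B a b →
        ∃ g ∈ H, g • b = b ∧ g • c ∈ B a y) ∨
      (∀ b c, a ≠ b → a ≠ c → c ∉ B a b → ∀ g ∈ H, g • b ∈ B a b → g • c ∈ B a c → g ∈ S.K a) ∨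
      ∃ b v, a ≠ b ∧ v ∈ B a b ∧ ∀ g ∈ H ⊓ S.K a, g • v ≠ b := by
  have hne : ∀ g ∈ H, ∀ y, a ≠ y → a ≠ g • y := fun g hg y hy => hH g hg ▸ smul_ne hy
  by_cases h3 : ∃ b v, a ≠ b ∧ v ∈ B a b ∧ ∀ g ∈ H ⊓ S.K a, g • v ≠ b
  · exact Or.inr (Or.inr h3)
  push Not at h3
  rcases prime_two_or_semireg S.prime H (blocks B a) (S.ncard_blocks a) (by
      rintro g hg _ ⟨y, hy, rfl⟩
      exact ⟨g • y, (hne g hg y (Ne.symm hy)).symm, (S.smul_block (hH g hg) y).symm⟩) (by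
      rintro _ ⟨y, hy, rfl⟩ _ ⟨z, hz, rfl⟩
      obtain ⟨u, hu, h⟩ := htr y z (Ne.symm hy) (Ne.symm hz)
      exact ⟨u, hu, by rw [S.smul_block (hH u hu), h]⟩) with h | h
  · left
    intro b c y hb hc hy hcb hyb
    obtain ⟨g, hg, h1, h4⟩ := h _ ⟨b, hb.symm, rfl⟩ _ ⟨c, hc.symm, rfl⟩ _ ⟨b, hb.symm, rfl⟩ _
      ⟨y, hy.symm, rfl⟩ (fun e => hcb ((S.eq_iff hb hc).mp e.symm))
      (fun e => hyb ((S.eq_iff hb hy).mp e.symm))
    rw [S.smul_block (hH g hg), S.eq_iff ‹_› (hne g hg _ ‹_›)] at h1 h4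
    obtain ⟨k, hk, h5⟩ := h3 b _ hb h1
    exact ⟨k * g, mul_mem hk.1 hg, by rw [mul_smul, h5], by
      rw [mul_smul]; exact S.K_smul_mem hy hk.2 h4⟩
  · right; left
    intro b c hb hc hcb g hg h1 h4
    refine ⟨hH g hg, fun y hy => ?_⟩
    have := h g hg _ ⟨b, hb.symm, rfl⟩ _ ⟨c, hc.symm, rfl⟩
      (fun e => hcb ((S.eq_iff hb hc).mp e.symm))
      (by rw [S.smul_block (hH g hg), S.eq_of_mem hb h1])
      (by rw [S.smul_block (hH g hg), S.eq_of_mem hc h4]) _ ⟨y, hy.symm, rfl⟩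
    rwa [S.smul_block (hH g hg), S.eq_iff hy (hne g hg _ hy)] at this

end Sys

end Cfsg.Lib.LG4
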